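import Cfsg.Agent.Lib.F42.Bas

/-! Three-local recognition of `F₄(2)`: package PP. -/

set_option autoImplicit false
set_option linter.unusedSectionVars false

namespace H29.F42

open Subgroup Cfsg
open H87.U6 (F3 V mC nrm cm_mul cm_inv cm_conj)

variable {G : Type*} [Group G] [Finite G] {j ρ : V → G} {τ : G}

namespace PP

theorem card_cj (g y : G) :
    Nat.card (centralizer {g * y * g⁻¹}) = Nat.card (centralizer ({y} : Set G)) := by
  refine (Nat.card_congr ((MulAut.conj g).toEquiv.subtypeEquiv fun x => ?_)).symm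
  rw [mC, mC]
  refine ⟨fun h => cm_conj h g, fun h => ?_⟩
  simpa [mul_assoc] using cm_conj h g⁻¹

theorem sim1 : Sim N1 := sim_lin ⟨-1, by decide, by decide +kernel⟩

theorem invol (h : Fr j τ ρ) {θ : Sp →* G} (s : Std j ρ θ) {r : G} (r2 : r * r = 1) (r1 : r ≠ 1)
    (c : ∀ x, θ x * r = r * θ x) : ¬ 3 ^ 5 ∣ Nat.card (centralizer ({r} : Set G)) := by
  have f := h.toF0
  obtain ⟨w, e | e⟩ := h.hpl (a := e1) (by decide) (g := r) fun v hv => by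
    rw [(by decide +kernel : ∀ v : V, b e1 v = 0 → v = (0, v.2.1, v.2.2.1, v.2.2.2)) v hv,
      ← s.wv f v.2, c]
  · have := f.j3 w
    rw [← e, pow_succ, pow_two, r2, one_mul] at this
    exact absurd this r1
  · have k := f.ρj e1 (by decide) w
    have k1 : w + rf e1 w = 0 := f.inj _ (by
      rw [f.add, ← k, ← r2, e, inv_eq_of_mul_eq_one_right (f.ρ2 e1 (by decide))]
      simp only [mul_assoc])
    have k2 : r = j (-w) * ρ e1 * (j (-w))⁻¹ := by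
      rw [← f.jneg, neg_neg, mul_assoc, ← mul_inv_eq_iff_eq_mul.1 k |>.symm, ← mul_assoc, ← f.add, e,
        (by decide +kernel : ∀ w : V, w + rf e1 w = 0 → -w + rf e1 w = w) w k1]
    rw [k2, card_cj]
    exact h.syl e1 (by decide)

/-- `C(j a) ≤ P` -/
def Gd (j : V → G) (P : Subgroup G) (a : V) : Prop := ∀ g, g * j a = j a * g → g ∈ P

theorem Gd.rf (f : F0 j τ ρ) {P : Subgroup G} {a c : V} (h : Gd j P a) (hc : q c ≠ 0 → ρ c ∈ P) :
    Gd j P (rf c a) := by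
  by_cases e : q c = 0
  · simpa [F42.rf, e] using h
  intro g hg
  rw [← f.ρj c e] at hg
  have := h ((ρ c)⁻¹ * g * ρ c) (by simpa [mul_assoc] using cm_conj hg (ρ c)⁻¹)
  rwa [mul_mem_cancel_right (hc e), mul_mem_cancel_left (inv_mem (hc e))] at this

theorem all (f : F0 j τ ρ) {P : Subgroup G} (h1 : Gd j P e1) (h2 : Gd j P (1, 1, 0, 0)) :
    (∀ c, q c ≠ 0 → ρ c ∈ P) ∧ ∀ a, q a ≠ 0 → Gd j P a := by
  have h0 : ∀ a ∈ [e1, (1, 1, 0, 0)], Gd j P a := by simpa using ⟨h1, h2⟩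
  have k : ∀ c, q c ≠ 0 → ρ c ∈ P := fun c hc => by
    obtain ⟨a, ha, a', ha', d, -, e1, e2⟩ := (by decide +kernel : ∀ c : V, q c ≠ 0 →
      ∃ a ∈ [e1, (1, 1, 0, 0)], ∃ a' ∈ [e1, (1, 1, 0, 0)],
      ∃ d ∈ [0, e2, (1, -1, 0, 0), (0, 1, -1, 0), (0, 1, 0, -1), (0, 1, 1, 0), (0, 1, 0, 1),
        (1, -1, 1, 1), (1, -1, -1, -1), (1, -1, 1, -1), (1, -1, -1, 1)],
        b d a' = 0 ∧ b c (rf d a) = 0) c hc
    exact (h0 a ha).rf f (fun hd => h0 a' ha' _ (f.ρc hd e1)) _ (f.ρc hc e2)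
  refine ⟨k, fun a ha => ?_⟩
  obtain ⟨a0, h, c, -, c', -, e⟩ := (by decide +kernel : ∀ a : V, q a ≠ 0 →
    ∃ a0 ∈ [e1, (1, 1, 0, 0)], ∃ c ∈ [a - a0, a + a0], ∃ c' ∈ [0, a0], rf c (rf c' a0) = a) a ha
  exact e ▸ ((h0 a0 h).rf f (k c')).rf f (k c)

end PP

theorem pp (h : Fr j τ ρ) {θ0 θ1 θ2 : Sp →* G} {d : G} (s0 : Std j ρ θ0)
    (s1 : Std (fun v => j (N1 v)) (fun v => ρ (N1 v)) θ1) (hd : d ∈ θ1.range ⊔ θ2.range)
    (d3 : d * j e3 = j e3 * d) (h2 : ∀ g, g ∈ θ2.range ↔ d⁻¹ * g * d ∈ θ0.range) :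
    S3 (normalizer ((θ1.range ⊔ θ2.range : Subgroup G) : Set G)) ∧
    centralizer ((θ1.range ⊔ θ2.range : Subgroup G) : Set G) = ⊥ ∧
    ∀ r : G, r * r = 1 → r ≠ 1 → (∀ x, θ1 x * r = r * θ1 x) ∨ (∀ x, θ2 x * r = r * θ2 x) →
      ¬ 3 ^ 5 ∣ Nat.card (centralizer ({r} : Set G)) := by
  have f := h.toF0
  set P := θ1.range ⊔ θ2.range with hP
  have m2 : ∀ x, d * θ0 x * d⁻¹ ∈ θ2.range := fun x => (h2 _).2 ⟨x, by group⟩
  have p0 : ∀ x, θ0 x ∈ P := fun x => by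
    have := (mem_sup_right (m2 x) : _ ∈ P)
    rwa [mul_mem_cancel_right (inv_mem hd), mul_mem_cancel_left hd] at this
  have p1 : ∀ x, θ1 x ∈ P := fun x => mem_sup_left ⟨x, rfl⟩
  have jP : ∀ v, j v ∈ P := fun v => by
    rw [(by decide +kernel : ∀ v : V, v = v.1 • N1 e2 + (0, v.2.1 + v.1, v.2.2.1, v.2.2.2)) v, f.add,
      ← f.jpow, ← s1.w0, ← s0.wv f (v.2.1 + v.1, v.2.2.1, v.2.2.2)]
    exact mul_mem (pow_mem (p1 _) _) (p0 _)
  obtain ⟨a1, a2⟩ := PP.all f (P := P)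
    (fun g hg => by obtain ⟨k, x, rfl⟩ := s0.dec g hg; exact mul_mem (jP _) (p0 _))
    (fun g hg => by obtain ⟨k, x, rfl⟩ := s1.dec g hg; exact mul_mem (jP _) (p1 _))
  refine ⟨h.uniq _ (fun g hg => nrm ?_) fun a ha g hg => le_normalizer (a2 a ha g hg), ?_,
    fun r r2 r1 c => ?_⟩
  · obtain ⟨N, hN, e⟩ := f.sim g hg
    have k : ∀ a, q a ≠ 0 → ∀ x, x * j a = j a * x → x ∈ P.comap (MulAut.conj g).toMonoidHom :=
      fun a ha x hx => a2 (N a) (mt (hN.q0 a).1 ha) _ (by rw [← e]; exact cm_conj hx g)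
    refine (sup_le ?_ ?_ : P ≤ P.comap (MulAut.conj g).toMonoidHom)
    · rintro _ ⟨x, rfl⟩; exact k _ (by decide) _ (s1.cy x)
    · intro y hy
      obtain ⟨x, hx⟩ := (h2 y).1 hy
      have := k _ (by decide) _ (s0.cy x)
      have hd' := k _ (by decide) _ d3
      rwa [hx, mul_mem_cancel_right hd', mul_mem_cancel_left (inv_mem hd')] at this
  · refine (eq_bot_iff_forall _).2 fun g hg => ?_
    obtain ⟨v, rfl⟩ := f.cJ g fun v => (hg _ (jP v)).symm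
    have k : ∀ c, q c ≠ 0 → rf c v = v := fun c hc => f.jinj (by
      rw [← f.ρj c hc, hg _ (a1 c hc), mul_inv_cancel_right])
    rw [(by decide +kernel : ∀ v : V, rf e1 v = v → rf e2 v = v → rf e3 v = v → rf e4 v = v → v = 0) v
      (k _ (by decide)) (k _ (by decide)) (k _ (by decide)) (k _ (by decide)), f.j0]
  · rcases c with c | c
    · exact PP.invol (h.comp PP.sim1) s1 r2 r1 c
    · rw [← PP.card_cj d⁻¹]
      refine PP.invol h s0 (by rw [conj_mul, r2]; simp) (by rwa [Ne, conj_eq_one_iff]) fun x => ?_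
      obtain ⟨y, hy⟩ := m2 x
      simpa [hy, mul_assoc] using cm_conj (c y) d⁻¹

end H29.F42
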