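import Cfsg.Agent.Lib.F42.Def

/-! Calculus in `Q` for `H29.F42.A0` (a copy of Lib/U63/Q without weak closure). -/

set_option autoImplicit false

namespace H29.F42

open Subgroup H87.Mc
open H87.U6 hiding A0 P0 St

variable {G : Type*} [Group G]

namespace A0

variable {z : G} {l : V → G} {t : G} (h : A0 z l t)
include h

theorem zz (a b : F3) : z ^ (a + b).val = z ^ a.val * z ^ b.val := pw_add h.z3 a b

omit h in
theorem cz {g : G} (hg : g * z = z * g) (n : ℕ) : g * z ^ n = z ^ n * g :=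
  ((show Commute g z from hg).pow_right n).eq

omit h in
theorem cjz {g : G} (hg : g * z = z * g) (n : ℕ) : g * z ^ n * g⁻¹ = z ^ n := cm_cj.1 (cz hg n)

theorem lzn (v : V) (n : ℕ) : l v * z ^ n = z ^ n * l v := cz (h.lz v) n

theorem l0 : l 0 = 1 := by
  have := h.lmul 0 0
  rw [add_zero, show be 0 0 = 0 from rfl, pw_zero, mul_one] at this
  exact mul_eq_left.1 this

theorem linv (v : V) : l (-v) = (l v)⁻¹ := by
  refine eq_inv_of_mul_eq_one_right ?_
  rw [h.lmul, add_neg_cancel, (by decide +kernel : ∀ v : V, be v (-v) = 0), h.l0, pw_zero, mul_one]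

theorem q0 (v : V) : qq z l v 0 = l v := by rw [qq, pw_zero, mul_one]
theorem qz (k : F3) : qq z l 0 k = z ^ k.val := by rw [qq, h.l0, one_mul]
theorem q00 : qq z l 0 0 = 1 := by rw [h.q0, h.l0]
theorem q01 : qq z l 0 1 = z := by rw [h.qz, pw_one]

theorem qmul (u v : V) (a b : F3) : qq z l u a * qq z l v b = qq z l (u + v) (be u v + a + b) := by
  rw [qq, qq, qq, h.zz, h.zz, ← mul_assoc, ← mul_assoc, ← mul_assoc, ← h.lmul, mul_assoc (l u),
    ← h.lzn, mul_assoc (l u) (l v)]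

theorem qinv (u : V) (a : F3) : (qq z l u a)⁻¹ = qq z l (-u) (-a) := by
  refine (eq_inv_of_mul_eq_one_right ?_).symm
  rw [h.qmul, add_neg_cancel, (by decide +kernel : ∀ v : V, be v (-v) = 0), zero_add, add_neg_cancel, h.q00]

theorem q_one {u : V} {a : F3} (e : qq z l u a = 1) : u = 0 ∧ a = 0 := by
  obtain rfl := h.linj u (by
    rw [qq, mul_eq_one_iff_eq_inv] at e
    exact e ▸ inv_mem (pow_mem (mem_zpowers z) _))
  exact ⟨rfl, pw_inj h.z3 h.z1 (by rwa [h.qz] at e)⟩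

theorem q_inj {u v : V} {a b : F3} (e : qq z l u a = qq z l v b) : u = v ∧ a = b := by
  have := h.q_one (u := u + -v) (a := be u (-v) + a + -b) (by rw [← h.qmul, ← h.qinv, e, mul_inv_cancel])
  obtain rfl : u = v := add_neg_eq_zero.1 this.1
  refine ⟨rfl, ?_⟩
  have e2 := this.2
  rwa [(by decide +kernel : ∀ v : V, be v (-v) = 0), zero_add, add_neg_eq_zero] at e2

theorem l_inj {u v : V} (e : l u = l v) : u = v := (h.q_inj (by rwa [h.q0, h.q0])).1

theorem q_zp {u : V} {a : F3} (e : qq z l u a ∈ zpowers z) : u = 0 := by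
  obtain ⟨k, e⟩ := (mem_zp h.z3).1 e
  exact (h.q_inj (e.trans (h.qz k).symm)).1

theorem qcj (u v : V) (a b : F3) :
    qq z l u a * qq z l v b * (qq z l u a)⁻¹ = qq z l v (b - be u v) := by
  rw [h.qinv, h.qmul, h.qmul, add_right_comm u, add_neg_cancel, zero_add]
  congr 1
  simp only [be, Prod.fst_add, Prod.snd_add, Prod.fst_neg, Prod.snd_neg]
  have : (3 : F3) = 0 := rfl
  linear_combination (u.1 * v.2.1 - u.2.1 * v.1 + (u.2.2.1 * v.2.2.2 - u.2.2.2 * v.2.2.1)) * this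

theorem lcj (u v : V) : l u * l v * (l u)⁻¹ = qq z l v (-be u v) := by
  simpa only [h.q0, zero_sub] using h.qcj u v 0 0

theorem lcm {u v : V} (e : be u v = 0) : l u * l v = l v * l u := by
  rw [cm_cj, h.lcj, e, neg_zero, h.q0]

theorem qcube (u : V) (a : F3) : qq z l u a ^ 3 = 1 := by
  rw [pow_succ, pow_two, h.qmul, h.qmul, (by decide +kernel : ∀ u : V, u + u + u = 0),
    (by decide +kernel : ∀ (u : V) (a : F3), be (u + u) u + (be u u + a + a) + a = 0), h.q00]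

theorem lcube (u : V) : l u ^ 3 = 1 := h.q0 u ▸ h.qcube u 0

theorem lpw (u : V) (a : F3) : l u ^ a.val = l (a * u.1, a * u.2.1, a * u.2.2.1, a * u.2.2.2) := by
  rcases f3_cases a with rfl | rfl | rfl
  · rw [pw_zero, ← h.l0]; simp only [zero_mul]; rfl
  · rw [pw_one]; simp only [one_mul]
  · rw [pw_two (h.lcube u), ← h.linv]
    exact congrArg l ((by decide +kernel : ∀ u : V, -u = (2 * u.1, 2 * u.2.1, 2 * u.2.2.1, 2 * u.2.2.2)) u)

theorem qH (u : V) (a : F3) : qq z l u a * z = z * qq z l u a := by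
  rw [qq, mul_assoc, ← pow_succ, pow_succ', ← mul_assoc, h.lz, mul_assoc]

theorem memQ {g : G} : g ∈ Qs z l ↔ ∃ v k, g = qq z l v k := by
  refine ⟨fun hg => ?_, ?_⟩
  · induction hg using closure_induction with
    | mem x hx =>
      rcases hx with rfl | ⟨v, rfl⟩
      exacts [⟨0, 1, h.q01.symm⟩, ⟨v, 0, (h.q0 v).symm⟩]
    | one => exact ⟨0, 0, h.q00.symm⟩
    | mul x y _ _ a b =>
      obtain ⟨u, a, rfl⟩ := a
      obtain ⟨v, b, rfl⟩ := b
      exact ⟨_, _, h.qmul u v a b⟩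
    | inv x _ a =>
      obtain ⟨u, a, rfl⟩ := a
      exact ⟨_, _, h.qinv u a⟩
  · rintro ⟨v, k, rfl⟩
    exact mul_mem (Subgroup.subset_closure (Or.inr ⟨v, rfl⟩))
      (pow_mem (Subgroup.subset_closure (Set.mem_insert _ _)) _)

theorem qQ (v : V) (k : F3) : qq z l v k ∈ Qs z l := h.memQ.2 ⟨v, k, rfl⟩
theorem lQ (v : V) : l v ∈ Qs z l := h.q0 v ▸ h.qQ v 0
omit h in
theorem zQ : z ∈ Qs z l := Subgroup.subset_closure (Set.mem_insert _ _)
omit h in
theorem ZQ : zpowers z ≤ Qs z l := zpowers_le.2 zQ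

theorem QH {g : G} (hg : g ∈ Qs z l) : g * z = z * g := by
  obtain ⟨v, k, rfl⟩ := h.memQ.1 hg
  exact h.qH v k

theorem Q3 {g : G} (hg : g ∈ Qs z l) : g ^ 3 = 1 := by
  obtain ⟨v, k, rfl⟩ := h.memQ.1 hg
  exact h.qcube v k

theorem cardQ : Nat.card (Qs z l) = 243 := by
  rw [← Nat.card_congr (Equiv.ofBijective (fun p : V × F3 => (⟨_, h.qQ p.1 p.2⟩ : Qs z l))
    ⟨fun p p' e => Prod.ext_iff.2 (h.q_inj (congrArg Subtype.val e)), fun g => by
      obtain ⟨v, k, e⟩ := h.memQ.1 g.2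
      exact ⟨(v, k), Subtype.ext e.symm⟩⟩)]
  simp

theorem exists_ac {g : G} (hg : g * z = z * g) : ∃ φ, Ac z l g φ := by
  choose φ k e using h.nQ g hg
  exact ⟨φ, hg, fun v => ⟨k v, e v⟩⟩

omit h in
theorem acq {g : G} {φ : V → V} (a : Ac z l g φ) (h : A0 z l t) (v : V) :
    ∃ k, ∀ m, g * qq z l v m * g⁻¹ = qq z l (φ v) (k + m) := by
  obtain ⟨k, e⟩ := a.2 v
  refine ⟨k, fun m => ?_⟩
  rw [qq, ← conj_mul, e, cjz a.1, qq, qq, h.zz, mul_assoc]

theorem nQ' {g x : G} (hg : g * z = z * g) (hx : x ∈ Qs z l) : g * x * g⁻¹ ∈ Qs z l := by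
  obtain ⟨φ, a⟩ := h.exists_ac hg
  obtain ⟨v, k, rfl⟩ := h.memQ.1 hx
  obtain ⟨m, e⟩ := acq a h v
  exact e k ▸ h.qQ _ _

theorem ac_mul {g g' : G} {φ φ' : V → V} (a : Ac z l g φ) (b : Ac z l g' φ') :
    Ac z l (g * g') fun v => φ (φ' v) := by
  refine ⟨by rw [mul_assoc, b.1, ← mul_assoc, a.1, mul_assoc], fun v => ?_⟩
  obtain ⟨k, e⟩ := b.2 v
  obtain ⟨m, e'⟩ := acq a h (φ' v)
  exact ⟨_, by rw [← e' k, ← e]; group⟩

omit h in
theorem ac_congr {g : G} {φ φ' : V → V} (a : Ac z l g φ) (e : ∀ v, φ v = φ' v) : Ac z l g φ' :=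
  funext e ▸ a

theorem ac_uniq {g : G} {φ φ' : V → V} (a : Ac z l g φ) (b : Ac z l g φ') (v : V) : φ v = φ' v := by
  obtain ⟨k, e⟩ := a.2 v
  obtain ⟨m, e'⟩ := b.2 v
  exact (h.q_inj (e.symm.trans e')).1

theorem ac_q (u : V) (a : F3) : Ac z l (qq z l u a) id :=
  ⟨h.qH u a, fun v => ⟨_, by rw [← h.q0 v, h.qcj]; rfl⟩⟩

theorem ac_Q {g : G} (hg : g ∈ Qs z l) : Ac z l g id := by
  obtain ⟨v, k, rfl⟩ := h.memQ.1 hg
  exact h.ac_q v k

theorem ac_one : Ac z l 1 id := h.ac_Q (one_mem _)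

theorem ac_inv {g : G} {φ φ' : V → V} (a : Ac z l g φ) (e : ∀ v, φ (φ' v) = v) : Ac z l g⁻¹ φ' := by
  refine ⟨((show Commute g z from a.1).inv_left).eq, fun v => ?_⟩
  obtain ⟨k, e'⟩ := acq a h (φ' v)
  refine ⟨-k, ?_⟩
  have := e' (-k)
  rw [e, add_neg_cancel, h.q0] at this
  rw [← this]; group

theorem ac_pow {g : G} {φ : V → V} (a : Ac z l g φ) : ∀ n : ℕ, Ac z l (g ^ n) φ^[n]
  | 0 => by rw [pow_zero]; exact h.ac_one
  | n + 1 => by rw [pow_succ]; exact (h.ac_mul (ac_pow a n) a :)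

theorem ac_add_be {g : G} {φ : V → V} (a : Ac z l g φ) (u v : V) :
    φ (u + v) = φ u + φ v ∧ be (φ u) (φ v) = be u v := by
  obtain ⟨k, e⟩ := acq a h u
  obtain ⟨m, e'⟩ := acq a h v
  obtain ⟨n, e''⟩ := acq a h (u + v)
  have k1 := e'' (be u v + 0 + 0)
  rw [← h.qmul, ← conj_mul, e, e', h.qmul] at k1
  refine ⟨(h.q_inj k1).1.symm, ?_⟩
  have k2 := e' (0 - be u v)
  rw [← h.qcj u v 0, show g * (qq z l u 0 * qq z l v 0 * (qq z l u 0)⁻¹) * g⁻¹ =
    g * qq z l u 0 * g⁻¹ * (g * qq z l v 0 * g⁻¹) * (g * qq z l u 0 * g⁻¹)⁻¹ by group, e, e', h.qcj] at k2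
  have := (h.q_inj k2).2
  linear_combination -this

theorem ac_lin {g : G} {φ : V → V} (a : Ac z l g φ) :
    Ac z l g (lin (φ (1, 0, 0, 0)) (φ (0, 1, 0, 0)) (φ (0, 0, 1, 0)) (φ (0, 0, 0, 1))) :=
  ac_congr a (add_lin fun u v => (h.ac_add_be a u v).1)

theorem ac_inj {g : G} {φ : V → V} (a : Ac z l g φ) {u v : V} (e : φ u = φ v) : u = v := by
  obtain ⟨k, e1⟩ := acq a h u
  obtain ⟨m, e2⟩ := acq a h v
  have := (e1 m).trans (by rw [e, add_comm, ← e2 k])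
  exact (h.q_inj (by simpa using this)).1

/-- an element acting trivially on `Q / Z` lies in `Q` -/
theorem memQ_of_ac {g : G} (a : Ac z l g id) : g ∈ Qs z l := by
  choose k e using fun v => acq a h v
  have ad : ∀ u v, k (u + v) = k u + k v := fun u v => by
    have k1 := e (u + v) (be u v + 0 + 0)
    rw [← h.qmul, ← conj_mul, e, e, h.qmul] at k1
    have := (h.q_inj k1).2
    simp only [id] at this
    linear_combination -this
  obtain ⟨w, hw⟩ := be_inner (k (1, 0, 0, 0)) (k (0, 1, 0, 0)) (k (0, 0, 1, 0)) (k (0, 0, 0, 1))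
  have hk : ∀ v, k v = -be w v := fun v => by
    have := congrArg Prod.fst (add_lin (φ := fun v => (k v, 0, 0, 0)) (fun u v => by simp [ad]) v)
    rw [← hw]; exact this
  have := h.cQ ((l w)⁻¹ * g) (by rw [mul_assoc, a.1, ← mul_assoc,
    ((show Commute (l w) z from h.lz w).inv_left).eq, mul_assoc]) fun v => by
      have e1 := e v 0
      rw [h.q0, add_zero, hk, id, ← h.lcj] at e1
      rw [cm_cj, mul_inv_rev, inv_inv, show (l w)⁻¹ * g * l v * (g⁻¹ * l w) =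
        (l w)⁻¹ * (g * l v * g⁻¹) * l w by group, e1]
      group
  simpa using mul_mem (h.lQ w) (ZQ this)

/-- two elements with the same action differ by an element of `Q` -/
theorem div_memQ {g g' : G} {φ : V → V} (a : Ac z l g φ) (b : Ac z l g' φ) : g⁻¹ * g' ∈ Qs z l := by
  obtain ⟨ψ, c⟩ := h.exists_ac ((show Commute g z from a.1).inv_left).eq
  have := h.ac_uniq (h.ac_mul c a) (inv_mul_cancel g ▸ h.ac_one)
  exact h.memQ_of_ac (ac_congr (h.ac_mul c b) this)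

theorem tinv : t⁻¹ = t := inv_eq_of_mul_eq_one_right h.t2

theorem tq (v : V) (k : F3) : t * qq z l v k * t⁻¹ = qq z l (-v) k := by
  rw [qq, ← conj_mul, h.tl, cjz h.tz, qq]

theorem ex_t : Ex z l t t fun v => -v := ⟨h.tz, rfl, h.tl⟩

theorem ex_ac {g : G} {φ : V → V} (a : Ex z l t g φ) : Ac z l g φ :=
  ⟨a.cz, fun v => ⟨0, by rw [a.act, h.q0]⟩⟩

omit h in
theorem ex_q {g : G} {φ : V → V} (a : Ex z l t g φ) (v : V) (k : F3) :
    g * qq z l v k * g⁻¹ = qq z l (φ v) k := by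
  rw [qq, ← conj_mul, a.act, cjz a.cz, qq]

theorem ex_of_ac {g : G} {φ : V → V} (a : Ac z l g φ) (ct : g * t = t * g) : Ex z l t g φ := by
  refine ⟨a.1, ct, fun v => ?_⟩
  obtain ⟨k, e⟩ := a.2 v
  have e1 : t * (g * l v * g⁻¹) * t⁻¹ = (g * l v * g⁻¹)⁻¹ := by
    rw [show t * (g * l v * g⁻¹) * t⁻¹ = t * g * l v * (t * g)⁻¹ by group, ← ct,
      show g * t * l v * (g * t)⁻¹ = g * (t * l v * t⁻¹) * g⁻¹ by group, h.tl, h.linv]
    group
  rw [e, h.tq, h.qinv] at e1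
  rw [e, (by decide : ∀ k : F3, k = -k → k = 0) k (h.q_inj e1).2, h.q0]

/-- `C(z) = Q C(z, t)` -/
theorem exists_ex {g : G} {φ : V → V} (a : Ac z l g φ) : ∃ n ∈ Qs z l, Ex z l t (n * g) φ := by
  have c := h.ac_mul (h.ex_ac h.ex_t) a
  have d : Ac z l (g * t) fun v => -φ v := ac_congr (h.ac_mul a (h.ex_ac h.ex_t)) fun v => by
    have e0 := (h.ac_add_be a 0 0).1
    have := (h.ac_add_be a v (-v)).1
    rw [add_zero, left_eq_add] at e0
    rw [add_neg_cancel, e0] at this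
    exact eq_neg_of_add_eq_zero_right this.symm
  have m := h.nQ' c.1 (h.div_memQ c d)
  rw [show t * g * ((t * g)⁻¹ * (g * t)) * (t * g)⁻¹ = g * t * g⁻¹ * t⁻¹ by group] at m
  exact ⟨_, m, h.ex_of_ac (ac_congr (h.ac_mul (h.ac_Q m) a) fun _ => rfl)
    (cent_adj (by group) h.t2 (h.Q3 m))⟩

omit h in
theorem ex_mul {g g' : G} {φ φ' : V → V} (a : Ex z l t g φ) (b : Ex z l t g' φ') :
    Ex z l t (g * g') fun v => φ (φ' v) :=
  ⟨by rw [mul_assoc, b.cz, ← mul_assoc, a.cz, mul_assoc],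
    by rw [mul_assoc, b.ct, ← mul_assoc, a.ct, mul_assoc], fun v => by rw [← a.act, ← b.act]; group⟩

omit h in
theorem ex_congr {g : G} {φ φ' : V → V} (a : Ex z l t g φ) (e : ∀ v, φ v = φ' v) : Ex z l t g φ' :=
  funext e ▸ a

omit h in
theorem ex_inv {g : G} {φ φ' : V → V} (a : Ex z l t g φ) (e : ∀ v, φ (φ' v) = v) : Ex z l t g⁻¹ φ' :=
  ⟨((show Commute g z from a.cz).inv_left).eq, ((show Commute g t from a.ct).inv_left).eq, fun v => by
    rw [← e v, ← a.act, e]; group⟩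

theorem ex_z (n : ℕ) : Ex z l t (z ^ n) id :=
  ⟨(Commute.refl z).pow_left n, (cz h.tz n).symm, fun v => cm_cj.1 (h.lzn v n).symm⟩

omit h in
theorem ex_one : Ex z l t 1 id := ⟨by simp, by simp, fun v => by simp⟩

omit h in
theorem ex_pow {g : G} {φ : V → V} (a : Ex z l t g φ) : ∀ n : ℕ, Ex z l t (g ^ n) φ^[n]
  | 0 => by rw [pow_zero]; exact ex_one
  | n + 1 => by rw [pow_succ]; exact (ex_mul (ex_pow a n) a :)

theorem ex_eq {g g' : G} {φ φ' : V → V} (a : Ex z l t g φ) (b : Ex z l t g' φ') (e : ∀ v, φ v = φ' v) :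
    ∃ k : F3, g' = g * z ^ k.val := by
  obtain ⟨k, e'⟩ := (mem_zp h.z3).1 (h.cQ (g⁻¹ * g')
    ((show Commute g z from a.cz).inv_left.mul_left b.cz).eq fun v => by
      rw [cm_cj, show g⁻¹ * g' * l v * (g⁻¹ * g')⁻¹ = g⁻¹ * (g' * l v * g'⁻¹) * g by group, b.act, ← e,
        ← a.act]
      group)
  exact ⟨k, by rw [← e']; group⟩

theorem ex_eq4 {g g' : G} {φ φ' : V → V} (a : Ex z l t g φ) (b : Ex z l t g' φ') (e : ∀ v, φ v = φ' v)
    (g4 : g ^ 4 = 1) (g4' : g' ^ 4 = 1) : g = g' := by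
  obtain ⟨k, rfl⟩ := h.ex_eq a b e
  rw [((show Commute g z from a.cz).pow_right _).mul_pow, g4, one_mul, pow_succ, ← pow_mul, mul_comm,
    pow_mul, h.z3, one_pow, one_mul] at g4'
  rw [g4', mul_one]

end A0

end H29.F42
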